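import Cfsg.Agent.HNRec.Twin

/-!
The setting: the presented group on `x, y, z` as the centraliser of an involution of a simple group.
-/

set_option autoImplicit false
set_option linter.unusedSectionVars false

namespace Cfsg.Agent.HNRec

open Subgroup

/-- A copy of the model as the centraliser of an involution. -/
structure Setting (G : Type*) [Group G] where
  /-- the map from the model -/
  Φ : HP →* G
  inj : Function.Injective Φ
  mem_range : ∀ y, y * Φ hT = Φ hT * y → y ∈ Φ.range

/-- A setting from the hypotheses on the centraliser. -/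
theorem exists_setting {G : Type*} [Group G] [Finite G] [IsSimpleGroup G] (t : G) (ht : orderOf t = 2)
    (M : Subgroup (Subgroup.centralizer ({t} : Set G))) [M.Normal] (hM : M.index = 2)
    (hout : Subgroup.centralizer (M : Set (Subgroup.centralizer ({t} : Set G))) ≤ M)
    (hcov : Cfsg.IsNonsplitDoubleCover M Cfsg.Spor.HS) : ∃ S : Setting G, S.Φ hT = t := by
  classical
  let t' : (Subgroup.centralizer ({t} : Set G)) := ⟨t, Subgroup.mem_centralizer_singleton_iff.2 rfl⟩
  have ht1 : t' ≠ 1 := fun h => by
    have h1 : t = 1 := congrArg Subtype.val h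
    rw [h1, orderOf_one] at ht
    norm_num at ht
  obtain ⟨ψ, hbij, hψT, h | h⟩ := exists_param M hM hout hcov t' ht1
    (fun g => Subtype.ext (Subgroup.mem_centralizer_singleton_iff.1 g.2))
  · refine ⟨⟨(Subgroup.centralizer ({t} : Set G)).subtype.comp (MonoidHom.mk' ψ h), (Subgroup.centralizer ({t} : Set G)).subtype_injective.comp hbij.1, fun y hy => ?_⟩, ?_⟩
    · have hyC : y ∈ (Subgroup.centralizer ({t} : Set G)) := Subgroup.mem_centralizer_singleton_iff.2 (by
        have e : ((ψ hT : (Subgroup.centralizer ({t} : Set G))) : G) = t := congrArg Subtype.val hψT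
        have hy' : y * ((ψ hT : (Subgroup.centralizer ({t} : Set G))) : G) =
            ((ψ hT : (Subgroup.centralizer ({t} : Set G))) : G) * y := hy
        rwa [e] at hy')
      obtain ⟨p, hp⟩ := hbij.2 ⟨y, hyC⟩
      exact ⟨p, congrArg Subtype.val hp⟩
    · exact congrArg Subtype.val hψT
  · refine (Twisted.contradiction (G := G) ⟨fun p => (ψ p : G), Subtype.val_injective.comp hbij.1,
      fun p q => congrArg Subtype.val (h p q), fun y hy => ?_⟩).elim
    have hyC : y ∈ (Subgroup.centralizer ({t} : Set G)) := Subgroup.mem_centralizer_singleton_iff.2 (by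
      have e : ((ψ hT : (Subgroup.centralizer ({t} : Set G))) : G) = t := congrArg Subtype.val hψT
      simpa [e] using hy)
    obtain ⟨p, hp⟩ := hbij.2 ⟨y, hyC⟩
    exact ⟨p, congrArg Subtype.val hp⟩

namespace Setting

variable {G : Type*} [Group G] [Finite G] (S : Setting G)

/-- The centraliser of the central involution. -/
theorem card_centralizer : Nat.card (Subgroup.centralizer ({S.Φ hT} : Set G)) = 2 ^ 11 * 86625 := by
  have e : Subgroup.centralizer ({S.Φ hT} : Set G) = S.Φ.range := by
    refine le_antisymm (fun y hy => S.mem_range y (Subgroup.mem_centralizer_singleton_iff.1 hy)) ?_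
    rintro _ ⟨p, rfl⟩
    rw [Subgroup.mem_centralizer_singleton_iff, ← map_mul, ← map_mul, hT_central]
  rw [e, ← Nat.card_congr (MonoidHom.ofInjective S.inj).toEquiv, card_HP_split]

theorem card_roots (r : HP) :
    Nat.card (Roots (syl.map S.Φ) (S.Φ r)) = Nat.card {p : syl // (p : HP) * p = r} := by
  let f : {p : syl // (p : HP) * p = r} → Roots (syl.map S.Φ) (S.Φ r) := fun p => ⟨⟨S.Φ p.1, p.1, p.1.2, rfl⟩, by
    show S.Φ p.1 * S.Φ p.1 = S.Φ r
    rw [← map_mul, p.2]⟩
  refine (Nat.card_congr (Equiv.ofBijective f ⟨?_, ?_⟩)).symm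
  · exact fun p q e => Subtype.ext (Subtype.ext (S.inj (congrArg (fun x : Roots (syl.map S.Φ) (S.Φ r) => (x.1 : G)) e)))
  · rintro ⟨⟨_, p, hp, rfl⟩, he⟩
    exact ⟨⟨⟨p, hp⟩, S.inj ((map_mul S.Φ p p).trans he)⟩, rfl⟩

/-- The central involution is not fused to the class of `z0`. -/
theorem not_conj_z0 : ¬ IsConj (S.Φ hT) (S.Φ z0) := by
  refine not_conj_of_roots (syl.map S.Φ) (k := 11) (m := 86625)
    (by rw [Subgroup.card_map_of_injective S.inj, card_syl]; norm_num) (by norm_num) S.card_centralizer ?_ ?_
    (by rw [S.card_roots, S.card_roots, card_roots_hT, card_roots_z0]; norm_num)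
  · rintro _ ⟨p, -, rfl⟩
    rw [Subgroup.mem_centralizer_singleton_iff, ← map_mul, ← map_mul, hT_central]
  · rintro _ ⟨p, hp, rfl⟩
    rw [Subgroup.mem_centralizer_singleton_iff, ← map_mul, ← map_mul, z0_central hp]

end Setting

end Cfsg.Agent.HNRec
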