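import Cfsg.Agent.HNRec.Fusion.Main
import Cfsg.Agent.HNRec.Amalgam.Main
import Cfsg.Agent.HNRec.Global.Bridge

/-!
The recognition of the Harada–Norton group from the setting, granted that the central involution is
not fused to the third class.
-/

set_option autoImplicit false
set_option maxRecDepth 100000

namespace Cfsg.Agent.HNRec

open Cfsg.Agent.CosetCert Cfsg.Spor

/-- The two inclusions of the model agree. -/
theorem inc_eq : Amalgam.inc = Global.iH := by
  refine PresentedGroup.ext fun b => ?_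
  rw [show Amalgam.inc (PresentedGroup.of b) = _ from Amalgam.exists_inc.choose_spec b]
  have h := Global.exists_iota.choose_spec.2.2 (2 * b.val) (by omega)
  have e : HNOrder.letterEl HNOrder.HRels (2 * b.val) = PresentedGroup.of b := by
    fin_cases b <;> rfl
  rw [e] at h
  rw [show Global.iH (PresentedGroup.of b) = _ from h]
  fin_cases b <;> rfl

variable {G : Type*} [Group G] [Finite G] [IsSimpleGroup G]

/-- The group is the Harada–Norton group, with a map carrying the model. -/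
theorem exists_iso_HN (S : Setting G) (hup : ¬ IsConj (S.Φ hT) (S.Φ (E SylData.iUp))) :
    ∃ H : Global.Hyp G, Function.Bijective H.θ := by
  obtain ⟨s, hs⟩ := Fusion.exists_rel S hup
  obtain ⟨θ, hθ, -⟩ := hs.exists_iso
  have hcomp : θ.comp Global.iH = S.Φ := MonoidHom.ext fun q => by
    rw [MonoidHom.comp_apply, ← inc_eq]; exact hθ q
  refine ⟨Global.Hyp.ofSetting S θ hcomp, (Global.Hyp.ofSetting S θ hcomp).inj, ?_⟩
  exact MonoidHom.range_eq_top.1 (Global.Hyp.range_eq_top _)

theorem iso_of_setting (S : Setting G) (hup : ¬ IsConj (S.Φ hT) (S.Φ (E SylData.iUp))) :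
    Cfsg.Spor.IsoHN G := by
  obtain ⟨H, hb⟩ := exists_iso_HN S hup
  exact ⟨(MulEquiv.ofBijective H.θ hb).symm⟩

theorem order_of_setting (S : Setting G) (hup : ¬ IsConj (S.Φ hT) (S.Φ (E SylData.iUp))) :
    Cfsg.IsHN G ∧ ∃ x y : G, orderOf x = 2 ∧ orderOf y = 2 ∧ ¬ IsConj x y ∧
      ∀ z : G, orderOf z = 2 → IsConj z x ∨ IsConj z y := by
  obtain ⟨H, hb⟩ := exists_iso_HN S hup
  refine ⟨⟨inferInstance, ?_⟩, H.θ Global.tR, H.θ Global.bR, ?_, ?_, ?_, ?_⟩
  · rw [← Nat.card_congr (MulEquiv.ofBijective H.θ hb).toEquiv]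
    exact (Cfsg.Agent.S1701.result).2
  · refine orderOf_eq_prime (by rw [pow_two, ← map_mul, Global.tR_sq, map_one]) fun h => ?_
    refine Global.diffW_spec (u := [0, 0]) (v := []) (by decide +kernel) (Global.iH_injective ?_)
    show Global.tR = Global.iH (Global.hE [])
    rw [show Global.hE [] = 1 from rfl, map_one]
    exact hb.1 (h.trans (map_one _).symm)
  · exact orderOf_eq_prime (by rw [pow_two, ← map_mul, Global.bR_sq, map_one]) fun h =>
      Global.bR_ne (hb.1 (h.trans (map_one _).symm))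
  · intro h
    obtain ⟨g, hg⟩ := isConj_iff.1 h.symm
    exact H.sep g hg
  · intro z hz
    obtain ⟨x, rfl⟩ := hb.2 z
    have hx : x ≠ 1 := fun e => by rw [e, map_one, orderOf_one] at hz; norm_num at hz
    have hx2 : x * x = 1 := hb.1 (by
      rw [map_mul, map_one, ← pow_two, ← hz, pow_orderOf_eq_one])
    rcases Global.invol_class_RG hx hx2 with ⟨c, rfl⟩ | ⟨c, rfl⟩
    · exact Or.inl (isConj_iff.2 ⟨(H.θ c)⁻¹, by simp only [map_mul, map_inv]; group⟩)
    · exact Or.inr (isConj_iff.2 ⟨(H.θ c)⁻¹, by simp only [map_mul, map_inv]; group⟩)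

theorem a12_of_setting (S : Setting G) (hup : ¬ IsConj (S.Φ hT) (S.Φ (E SylData.iUp))) :
    ∃ K : Subgroup G, Nonempty (K ≃* alternatingGroup (Fin 12)) := by
  obtain ⟨H, hb⟩ := exists_iso_HN S hup
  obtain ⟨φ, hφ⟩ := HNA12.exists_alt_hom Cfsg.Agent.S1701.result
  exact ⟨(H.θ.comp φ).range, ⟨(MonoidHom.ofInjective (f := H.θ.comp φ) (hb.1.comp hφ)).symm⟩⟩

end Cfsg.Agent.HNRec
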