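import Cfsg.Agent.HNMult.Cover
import Cfsg.Agent.HNOut.Bound

/-!
Two non-split double covers of the Higman–Sims group are isomorphic.
-/

set_option autoImplicit false

namespace Cfsg.Agent.HNRec

open Subgroup
open scoped commutatorElement

/-- A carrier without operations. -/
def Carrier (n : ℕ) : Type := Fin n

instance finite_carrier (n : ℕ) : Finite (Carrier n) := inferInstanceAs (Finite (Fin n))

/-- The projection of a double cover. -/
theorem exists_proj {K : Type*} [Group K] (h : Cfsg.IsNonsplitDoubleCover K ↥Cfsg.Spor.HS) :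
    ∃ f : K →* ↥Cfsg.Spor.HS, Function.Surjective f ∧ f.ker ≤ center K ∧ Nat.card f.ker = 2 := by
  obtain ⟨hcard, ⟨e⟩, -⟩ := h
  let f : K →* ↥Cfsg.Spor.HS := e.toMonoidHom.comp (QuotientGroup.mk' (center K))
  have hker : f.ker = center K := (MonoidHom.ker_mulEquiv_comp _ e).trans (QuotientGroup.ker_mk' _)
  exact ⟨f, e.surjective.comp QuotientGroup.mk_surjective, hker.le, by rw [hker, hcard]⟩

/-- A perfect central extension of order twice that of the group is isomorphic to a given double cover. -/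
theorem cover_iso_aux {K H : Type} [Group K] [Finite K] [Group H] [Finite H]
    (hK : Cfsg.IsNonsplitDoubleCover K ↥Cfsg.Spor.HS) (σ : H →* ↥Cfsg.Spor.HS) (hs : Function.Surjective σ)
    (hz : σ.ker ≤ center H) (hp : commutator H = ⊤) (hcardH : Nat.card H = Nat.card K) :
    Nonempty (K ≃* H) := by
  classical
  obtain ⟨f, hf, hfz, -⟩ := exists_proj hK
  have hKp := HNMult.cover_perfect hK
  let Γ : Subgroup (K × H) :=
    { carrier := {p | f p.1 = σ p.2}
      one_mem' := by simp
      mul_mem' := fun {a b} ha hb => by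
        simp only [Set.mem_setOf_eq, Prod.fst_mul, Prod.snd_mul, map_mul] at ha hb ⊢
        rw [ha, hb]
      inv_mem' := fun {a} ha => by
        simp only [Set.mem_setOf_eq, Prod.fst_inv, Prod.snd_inv, map_inv] at ha ⊢
        rw [ha] }
  let p1 : Γ →* K := (MonoidHom.fst K H).comp Γ.subtype
  let p2 : Γ →* H := (MonoidHom.snd K H).comp Γ.subtype
  have h1s : Function.Surjective p1 := fun k => by
    obtain ⟨m, hm⟩ := hs (f k)
    exact ⟨⟨(k, m), hm.symm⟩, rfl⟩
  have h2s : Function.Surjective p2 := fun m => by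
    obtain ⟨k, hk⟩ := hf (σ m)
    exact ⟨⟨(k, m), hk⟩, rfl⟩
  have h1z : p1.ker ≤ center Γ := fun g hg => by
    have a1 : g.1.1 = 1 := hg
    have a2 : σ g.1.2 = 1 := by
      have := g.2
      change f g.1.1 = σ g.1.2 at this
      rw [← this, a1, map_one]
    refine mem_center_iff.mpr fun x => Subtype.ext (Prod.ext ?_ ?_)
    · show x.1.1 * g.1.1 = g.1.1 * x.1.1
      rw [a1, mul_one, one_mul]
    · exact mem_center_iff.mp (hz a2) _
  set D : Subgroup Γ := commutator Γ with hD
  have hmapD : D.map p1 = ⊤ := HNMult.commutator_map_top h1s hKp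
  have hmapD2 : D.map p2 = ⊤ := HNMult.commutator_map_top h2s hp
  have hdec : ∀ g : Γ, ∃ z ∈ center Γ, ∃ u ∈ D, g = z * u := fun g => by
    obtain ⟨u, hu, hug⟩ := (hmapD ▸ mem_top (p1 g) : p1 g ∈ D.map p1)
    refine ⟨g * u⁻¹, h1z ?_, u, hu, by group⟩
    rw [MonoidHom.mem_ker, map_mul, map_inv, hug, mul_inv_cancel]
  have hDD : ⁅D, D⁆ = D := by
    refine le_antisymm (commutator_le_right D D) ?_
    conv_lhs => rw [hD, _root_.commutator_def]
    rw [commutator_le]
    intro a _ b _
    obtain ⟨z, hz', u, hu, rfl⟩ := hdec a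
    obtain ⟨w, hw, v, hv, rfl⟩ := hdec b
    have e : ⁅z * u, w * v⁆ = ⁅u, v⁆ := by
      have cz : ∀ x, z * x = x * z := fun x => (mem_center_iff.mp hz' x).symm
      have cw : ∀ x, w * x = x * w := fun x => (mem_center_iff.mp hw x).symm
      simp only [commutatorElement_def, mul_inv_rev]
      calc z * u * (w * v) * (u⁻¹ * z⁻¹) * (v⁻¹ * w⁻¹) = z * (u * w) * v * u⁻¹ * (z⁻¹ * v⁻¹) * w⁻¹ := by group
        _ = z * (w * u) * v * u⁻¹ * (v⁻¹ * z⁻¹) * w⁻¹ := by
          rw [cw u, show z⁻¹ * v⁻¹ = v⁻¹ * z⁻¹ by rw [← mul_inv_rev, ← mul_inv_rev, cz]]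
        _ = z * (w * (u * v * u⁻¹ * v⁻¹)) * z⁻¹ * w⁻¹ := by group
        _ = (w * (u * v * u⁻¹ * v⁻¹)) * z * z⁻¹ * w⁻¹ := by rw [cz]
        _ = w * (u * v * u⁻¹ * v⁻¹) * w⁻¹ := by group
        _ = u * v * u⁻¹ * v⁻¹ := by rw [cw, mul_inv_cancel_right]
    rw [e]
    exact commutator_mem_commutator hu hv
  have hperfD : commutator D = ⊤ := by
    apply Subgroup.map_injective D.subtype_injective
    rw [_root_.commutator_def, Subgroup.map_commutator, ← MonoidHom.range_eq_map, range_subtype, hDD]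
  let π : D →* K := p1.comp D.subtype
  have hπs : Function.Surjective π := fun k => by
    obtain ⟨u, hu, e⟩ := (hmapD ▸ mem_top k : k ∈ D.map p1)
    exact ⟨⟨u, hu⟩, e⟩
  have hstem : Cfsg.IsStemExtension π :=
    ⟨hπs, fun d hd => mem_center_iff.mpr fun x => Subtype.ext (mem_center_iff.mp (h1z hd) x.1),
      by rw [hperfD]; exact le_top⟩
  obtain ⟨r, hr⟩ := (HNMult.cover_mult hK).2 D π hstem
  have hker : π.ker = ⊥ := Subgroup.card_eq_one.1 (by
    refine le_antisymm ((Nat.card_le_card_of_surjective r hr).trans ?_) Nat.card_pos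
    simp [Nat.card_eq_fintype_card])
  have hπb : Function.Bijective π := ⟨(MonoidHom.ker_eq_bot_iff π).1 hker, hπs⟩
  have hg : Function.Surjective (p2.comp D.subtype) := fun m => by
    obtain ⟨u, hu, e⟩ := (hmapD2 ▸ mem_top m : m ∈ D.map p2)
    exact ⟨⟨u, hu⟩, e⟩
  have hgb : Function.Bijective (p2.comp D.subtype) :=
    (Nat.bijective_iff_surjective_and_card _).2 ⟨hg, by rw [hcardH, Nat.card_congr (Equiv.ofBijective π hπb)]⟩
  exact ⟨(MulEquiv.ofBijective π hπb).symm.trans (MulEquiv.ofBijective _ hgb)⟩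

/-- Two non-split double covers of the Higman–Sims group are isomorphic. -/
theorem cover_iso {K : Type} [Group K] [Finite K] (hK : Cfsg.IsNonsplitDoubleCover K ↥Cfsg.Spor.HS)
    {M : Type*} [Group M] [Finite M] (hM : Cfsg.IsNonsplitDoubleCover M ↥Cfsg.Spor.HS) :
    Nonempty (K ≃* M) := by
  obtain ⟨g, hg, hgz, -⟩ := exists_proj hM
  let ec : Carrier (Nat.card M) ≃ M := (Finite.equivFin M).symm
  letI grp : Group (Carrier (Nat.card M)) := ec.group
  let c : Carrier (Nat.card M) ≃* M := ec.mulEquiv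
  have hp : commutator (Carrier (Nat.card M)) = ⊤ := by
    have := congrArg (Subgroup.map c.symm.toMonoidHom) (HNMult.cover_perfect hM)
    rwa [_root_.commutator_def, Subgroup.map_commutator, Subgroup.map_top_of_surjective _ c.symm.surjective,
      ← _root_.commutator_def] at this
  obtain ⟨φ⟩ := cover_iso_aux hK (g.comp c.toMonoidHom) (hg.comp c.surjective)
    (fun x hx => mem_center_iff.mpr fun y => c.injective (by
      rw [map_mul, map_mul]
      exact mem_center_iff.mp (hgz (show g (c x) = 1 from hx)) (c y)))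
    hp (by rw [Nat.card_congr c.toEquiv, HNOut.card_cover hM, HNOut.card_cover hK])
  exact ⟨φ.trans c⟩

end Cfsg.Agent.HNRec
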