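import Cfsg.Agent.HNRec.Model
import Cfsg.Agent.HNRec.Cover

/-!
An extension of a double cover of the Higman–Sims group by an outer involution class is the model or its twin.
-/

set_option autoImplicit false

namespace Cfsg.Agent.HNRec

open Subgroup

/-- The twisting cocycle. -/
noncomputable def tau (p q : HP) : HP := if sgn p = 1 ∨ sgn q = 1 then 1 else hT

theorem sgn_cases (p : HP) : sgn p = 1 ∨ sgn p = -1 := Int.units_eq_one_or _

theorem sgn_mul_z {p : HP} (h : sgn p ≠ 1) : sgn (p * hgen 2) = 1 := by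
  rw [map_mul, sgn_z, (sgn_cases p).resolve_left h]
  decide

theorem hgen_two_sq : hgen 2 * hgen 2 = 1 := by
  have h := HNOrder.wd_rel HNOrder.HRels (l := [(2, true), (2, true)]) (by decide +kernel)
  rwa [show HNOrder.wd HNOrder.HRels [(2, true), (2, true)] = hgen 2 * hgen 2 from
    (HNOrder.wd_append HNOrder.HRels [(2, true)] [(2, true)])] at h

variable {C : Type*} [Group C] [Finite C]

/-- A bijection from the model which is a homomorphism or twisted by the central involution. -/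
theorem exists_param (M : Subgroup C) [M.Normal] (hM : M.index = 2)
    (hout : Subgroup.centralizer (M : Set C) ≤ M) (hcov : Cfsg.IsNonsplitDoubleCover M ↥Cfsg.Spor.HS)
    (t : C) (ht : t ≠ 1) (htc : ∀ g, g * t = t * g) :
    ∃ ψ : HP → C, Function.Bijective ψ ∧ ψ hT = t ∧
      ((∀ p q, ψ (p * q) = ψ p * ψ q) ∨ (∀ p q, ψ (p * q * tau p q) = ψ p * ψ q)) := by
  classical
  obtain ⟨e⟩ := cover_iso cover_KH.1 hcov
  have hzz := hgen_two_sq
  let ε : HP → C := fun p => if h : sgn p = 1 then (e ⟨p, h⟩ : C) else 1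
  have ε_def : ∀ {p : HP} (h : sgn p = 1), ε p = (e ⟨p, h⟩ : C) := fun h => dif_pos h
  have ε_mul : ∀ {p q : HP}, sgn p = 1 → sgn q = 1 → ε (p * q) = ε p * ε q := by
    intro p q hp hq
    have hpq : sgn (p * q) = 1 := by rw [map_mul, hp, hq, one_mul]
    rw [ε_def hp, ε_def hq, ε_def hpq]
    exact congrArg Subtype.val (map_mul e ⟨p, hp⟩ ⟨q, hq⟩)
  have ε_mem : ∀ p, ε p ∈ M := fun p => by
    show dite _ _ _ ∈ M
    split_ifs with h
    · exact (e ⟨p, h⟩).2
    · exact one_mem _
  have ε_inj : ∀ {p q : HP}, sgn p = 1 → sgn q = 1 → ε p = ε q → p = q := by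
    intro p q hp hq he
    rw [ε_def hp, ε_def hq] at he
    exact congrArg Subtype.val (e.injective (Subtype.ext he))
  -- the centre of `M`
  have htM : t ∈ M := hout (Subgroup.mem_centralizer_iff.2 fun m _ => htc m)
  have hcenM : ∀ m : C, m ∈ M → (∀ k ∈ M, k * m = m * k) → m = 1 ∨ m = t := by
    intro m hm hk
    by_contra hne
    push Not at hne
    have h3 : ({⟨1, one_mem _⟩, ⟨t, htM⟩, ⟨m, hm⟩} : Set M) ⊆ (Subgroup.center M : Set M) := by
      rintro x (rfl | rfl | rfl)
      · exact one_mem _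
      · exact Subgroup.mem_center_iff.2 fun k => Subtype.ext (htc k.1)
      · exact Subgroup.mem_center_iff.2 fun k => Subtype.ext (hk k.1 k.2)
    have h4 := Set.ncard_le_ncard h3 (Set.toFinite _)
    rw [show Set.ncard ((Subgroup.center M : Subgroup M) : Set M) = 2 from hcov.1, Set.ncard_insert_of_notMem,
      Set.ncard_pair] at h4
    · omega
    · exact fun e => hne.2 (congrArg Subtype.val e).symm
    · simp only [Set.mem_insert_iff, Set.mem_singleton_iff, Subtype.mk.injEq, not_or]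
      exact ⟨fun e => ht e.symm, fun e => hne.1 e.symm⟩
  have hεT : ε hT = t := by
    have hmem := ε_mem hT
    refine (hcenM _ hmem fun k hk => ?_).resolve_left fun h => hT_ne (ε_inj sgn_hT (map_one sgn) (h.trans ?_))
    · obtain ⟨⟨p, hp⟩, hpe⟩ := e.surjective ⟨k, hk⟩
      have hpk : ε p = k := by rw [ε_def hp, hpe]
      rw [← hpk, ← ε_mul hp sgn_hT, ← ε_mul sgn_hT hp, hT_central]
    · rw [ε_def (map_one sgn), show (⟨(1 : HP), map_one sgn⟩ : KH) = 1 from rfl, map_one]
      rfl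
  -- the outer element
  have hker : Nat.card ↥(MulAut.conjNormal : C →* MulAut M).ker ≤ 2 := by
    have hsub : ((MulAut.conjNormal : C →* MulAut M).ker : Set C) ⊆ {1, t} := by
      intro c hc
      have hcm : ∀ m ∈ M, m * c = c * m := fun m hm => by
        have := congrArg (fun φ : MulAut M => ((φ ⟨m, hm⟩ : M) : C)) (MonoidHom.mem_ker.1 hc)
        simp only [MulAut.conjNormal_apply, MulAut.one_apply] at this
        calc m * c = (c * m * c⁻¹) * c := by rw [this]
          _ = c * m := by group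
      exact hcenM c (hout (Subgroup.mem_centralizer_iff.2 hcm)) hcm
    show Nat.card ↥((MulAut.conjNormal : C →* MulAut M).ker : Set C) ≤ 2
    rw [Nat.card_coe_set_eq]
    exact (Set.ncard_le_ncard hsub (Set.toFinite _)).trans ((Set.ncard_insert_le _ _).trans (by simp))
  obtain ⟨c, hc⟩ := HNOut.conjNormal_surjective M hM hcov hker
    (MulAut.congr e (MulAut.conjNormal (hgen 2)))
  have hconj : ∀ {p : HP}, sgn p = 1 → c * ε p = ε (hgen 2 * p * hgen 2) * c := by
    intro p hp
    have h := hc (e ⟨p, hp⟩)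
    simp only [MulAut.congr_apply, MulEquiv.trans_apply, MulEquiv.symm_apply_apply] at h
    have hzi : (hgen 2)⁻¹ = hgen 2 := inv_eq_of_mul_eq_one_right hzz
    have hp' : sgn (hgen 2 * p * hgen 2) = 1 := by
      rw [map_mul, map_mul, hp, mul_one, sgn_z]; decide
    rw [ε_def hp, ε_def hp', show (⟨hgen 2 * p * hgen 2, hp'⟩ : KH) = MulAut.conjNormal (hgen 2) ⟨p, hp⟩ from
      Subtype.ext (by rw [MulAut.conjNormal_apply, hzi])]
    rw [h]
    group
  have hcM : c ∉ M := by
    intro hcM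
    obtain ⟨⟨k, hk⟩, hke⟩ := e.surjective ⟨c, hcM⟩
    have hck : c = ε k := by rw [ε_def hk, hke]
    have hcen : ∀ p ∈ KH, (k⁻¹ * hgen 2) * p = p * (k⁻¹ * hgen 2) := by
      intro p hp
      have h := hconj hp
      have hp' : sgn (hgen 2 * p * hgen 2) = 1 := by
        rw [map_mul, map_mul, show sgn p = 1 from hp, mul_one, sgn_z]; decide
      rw [hck, ← ε_mul hk hp, ← ε_mul hp' hk] at h
      have h := ε_inj (by rw [map_mul, show sgn p = 1 from hp, show sgn k = 1 from hk, one_mul])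
        (by rw [map_mul, hp', show sgn k = 1 from hk, one_mul]) h
      calc k⁻¹ * hgen 2 * p = k⁻¹ * ((hgen 2 * p * hgen 2) * k) * k⁻¹ * (hgen 2)⁻¹ := by group
        _ = k⁻¹ * (k * p) * k⁻¹ * (hgen 2)⁻¹ := by rw [h]
        _ = p * (k⁻¹ * hgen 2) := by
          rw [inv_eq_of_mul_eq_one_right hzz]; group
    have h1 : sgn (k⁻¹ * hgen 2) = -1 := by
      rw [map_mul, map_inv, show sgn k = 1 from hk, sgn_z]; decide
    rcases centralizes_KH hcen with h | h <;> rw [h] at h1
    · rw [map_one] at h1; exact absurd h1 (by decide)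
    · rw [sgn_hT] at h1; exact absurd h1 (by decide)
  have hcc : c * c ∈ M := (Subgroup.mul_self_mem_of_index_two hM c)
  have hcc' : c * c = 1 ∨ c * c = t := by
    refine hcenM _ hcc fun k hk => ?_
    obtain ⟨⟨p, hp⟩, hpe⟩ := e.surjective ⟨k, hk⟩
    have hpk : ε p = k := by rw [ε_def hp, hpe]
    have hp' : sgn (hgen 2 * p * hgen 2) = 1 := by
      rw [map_mul, map_mul, show sgn p = 1 from hp, mul_one, sgn_z]; decide
    rw [← hpk]
    calc ε p * (c * c) = ε (hgen 2 * (hgen 2 * p * hgen 2) * hgen 2) * c * c := by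
          rw [show hgen 2 * (hgen 2 * p * hgen 2) * hgen 2 = (hgen 2 * hgen 2) * p * (hgen 2 * hgen 2) by group,
            hzz, one_mul, mul_one, mul_assoc]
      _ = c * ε (hgen 2 * p * hgen 2) * c := by rw [hconj hp']
      _ = c * (ε (hgen 2 * p * hgen 2) * c) := by rw [mul_assoc]
      _ = c * (c * ε p) := by rw [hconj hp]
      _ = c * c * ε p := by rw [mul_assoc]
  let ψ : HP → C := fun p => if sgn p = 1 then ε p else ε (p * hgen 2) * c
  have ψ_even : ∀ {p}, sgn p = 1 → ψ p = ε p := fun h => if_pos h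
  have ψ_odd : ∀ {p}, sgn p ≠ 1 → ψ p = ε (p * hgen 2) * c := fun h => if_neg h
  have hz2 : ∀ p : HP, p * hgen 2 * hgen 2 = p := fun p => by rw [mul_assoc, hzz, mul_one]
  have hinj : Function.Injective ψ := by
    intro p q he
    by_cases hp : sgn p = 1 <;> by_cases hq : sgn q = 1
    · rw [ψ_even hp, ψ_even hq] at he
      exact ε_inj hp hq he
    · rw [ψ_even hp, ψ_odd hq] at he
      exact absurd ((Subgroup.mul_mem_cancel_left M (ε_mem _)).1 (he ▸ ε_mem p)) hcM
    · rw [ψ_odd hp, ψ_even hq] at he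
      exact absurd ((Subgroup.mul_mem_cancel_left M (ε_mem _)).1 (he ▸ ε_mem q)) hcM
    · rw [ψ_odd hp, ψ_odd hq] at he
      exact mul_right_cancel (ε_inj (sgn_mul_z hp) (sgn_mul_z hq) (mul_right_cancel he))
  have hbij : Function.Bijective ψ := (Nat.bijective_iff_injective_and_card ψ).2 ⟨hinj, by
    rw [card_HP, ← Subgroup.card_mul_index M, HNOut.card_cover hcov, hM]⟩
  have hmix : ∀ p q, ¬ (sgn p ≠ 1 ∧ sgn q ≠ 1) → ψ (p * q) = ψ p * ψ q := by
    intro p q hpq
    by_cases hp : sgn p = 1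
    · by_cases hq : sgn q = 1
      · rw [ψ_even hp, ψ_even hq, ψ_even (by rw [map_mul, hp, hq, one_mul]), ε_mul hp hq]
      · rw [ψ_even hp, ψ_odd hq, ψ_odd (by rw [map_mul, hp, one_mul]; exact hq), mul_assoc,
          ε_mul hp (sgn_mul_z hq), mul_assoc]
    · have hq : sgn q = 1 := by
        by_contra hq
        exact hpq ⟨hp, hq⟩
      have hq' : sgn (hgen 2 * q * hgen 2) = 1 := by
        rw [map_mul, map_mul, hq, mul_one, sgn_z]; decide
      rw [ψ_odd hp, ψ_even hq, mul_assoc, hconj hq, ← mul_assoc, ← ε_mul (sgn_mul_z hp) hq',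
        ψ_odd (by rw [map_mul, hq, mul_one]; exact hp)]
      congr 2
      rw [← mul_assoc, ← mul_assoc, hz2]
  have hodd : ∀ p q, sgn p ≠ 1 → sgn q ≠ 1 → ψ p * ψ q = ε (p * q) * (c * c) := by
    intro p q hp hq
    have hq' : sgn (hgen 2 * (q * hgen 2) * hgen 2) = 1 := by
      rw [map_mul, map_mul, sgn_mul_z hq, mul_one, sgn_z]; decide
    rw [ψ_odd hp, ψ_odd hq]
    calc ε (p * hgen 2) * c * (ε (q * hgen 2) * c) = ε (p * hgen 2) * (c * ε (q * hgen 2)) * c := by group
      _ = ε (p * hgen 2) * (ε (hgen 2 * (q * hgen 2) * hgen 2) * c) * c := by rw [hconj (sgn_mul_z hq)]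
      _ = ε (p * hgen 2 * (hgen 2 * (q * hgen 2) * hgen 2)) * (c * c) := by
        rw [ε_mul (sgn_mul_z hp) hq']; group
      _ = ε (p * q) * (c * c) := by
        rw [show p * hgen 2 * (hgen 2 * (q * hgen 2) * hgen 2) = p * (hgen 2 * hgen 2) * q * (hgen 2 * hgen 2) by
          group, hzz, mul_one, mul_one]
  refine ⟨ψ, hbij, by rw [ψ_even sgn_hT, hεT], ?_⟩
  have hpq : ∀ {p q}, sgn p ≠ 1 → sgn q ≠ 1 → sgn (p * q) = 1 := fun {p q} hp hq => by
    rw [map_mul, (sgn_cases p).resolve_left hp, (sgn_cases q).resolve_left hq]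
    decide
  rcases hcc' with h | h
  · left
    intro p q
    by_cases hb : sgn p ≠ 1 ∧ sgn q ≠ 1
    · rw [hodd p q hb.1 hb.2, h, mul_one, ψ_even (hpq hb.1 hb.2)]
    · exact hmix p q hb
  · right
    intro p q
    by_cases hb : sgn p ≠ 1 ∧ sgn q ≠ 1
    · have h1 := hpq hb.1 hb.2
      rw [tau, if_neg (by tauto), hodd p q hb.1 hb.2, h,
        ψ_even (by rw [map_mul, h1, sgn_hT, one_mul]), ε_mul h1 sgn_hT, hεT]
    · rw [tau, if_pos (by tauto), mul_one]
      exact hmix p q hb

end Cfsg.Agent.HNRec
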