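import Cfsg.Agent.HNSub.Main
import Cfsg.Agent.HNOrder.HModel
import Cfsg.Agent.HNMult.Cover
import Cfsg.Agent.HNOut.Bound

/-!
The presented group on `x, y, z` as the model of the centraliser of an involution: its parity, its derived
double cover and its central involution.
-/

set_option autoImplicit false
set_option maxRecDepth 100000

namespace Cfsg.Agent.HNRec

open Cfsg.Agent.CosetCert Cfsg.Agent.HNSub

/-- The model. -/
abbrev HP : Type := HNOrder.HGroup

/-- The generators `x, y, z`. -/
noncomputable def hgen (b : Fin 3) : HP := PresentedGroup.of b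

theorem HRels_sub : ∀ l ∈ HNOrder.HRels,
    l ∈ relsP ∨ l = [(0, true), (0, true), (0, true), (0, true)] := by
  decide +kernel

theorem wval_pgen_eq_one : ∀ l ∈ HNOrder.HRels, wval pgen l = 1 := by
  intro l hl
  rcases HRels_sub l hl with h | rfl
  · exact pgen_rel h
  · simp only [wval, cond_true, mul_one]
    have := pc_facts.2.2
    rw [pc] at this
    rwa [mul_assoc] at this

/-- The map to the group of the double cover's construction. -/
noncomputable def toPX : HP →* PX := PresentedGroup.toGroup (wordRels_lift pgen wval_pgen_eq_one)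

theorem toPX_gen (b : Fin 3) : toPX (hgen b) = pgen b := PresentedGroup.toGroup.of _

theorem toPX_surjective : Function.Surjective toPX := by
  rw [← MonoidHom.range_eq_top, eq_top_iff, ← PresentedGroup.closure_range_of (wordRels relsP),
    Subgroup.closure_le]
  rintro _ ⟨b, rfl⟩
  exact ⟨hgen b, toPX_gen b⟩

theorem kP_normal : kP.Normal := MonoidHom.normal_ker _

theorem card_PX : Nat.card PX = 177408000 := by
  rw [← Subgroup.card_mul_index kP, HNOut.card_cover kP_cover, kP_index]

instance finite_HP : Finite HP := HNOrder.hgroup_card.1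

theorem toPX_bijective : Function.Bijective toPX := by
  have : Finite PX := Finite.of_surjective toPX toPX_surjective
  refine (Nat.bijective_iff_surjective_and_card toPX).2 ⟨toPX_surjective, le_antisymm ?_ ?_⟩
  · rw [card_PX]; exact HNOrder.hgroup_card.2
  · exact Nat.card_le_card_of_surjective toPX toPX_surjective

/-- The isomorphism. -/
noncomputable def isoPX : HP ≃* PX := MulEquiv.ofBijective toPX toPX_bijective

theorem card_HP : Nat.card HP = 177408000 := (Nat.card_congr isoPX.toEquiv).trans card_PX

/-- The parity. -/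
noncomputable def sgn : HP →* ℤˣ := (Equiv.Perm.sign.comp phiP).comp toPX

/-- The even elements. -/
noncomputable abbrev KH : Subgroup HP := sgn.ker

theorem mem_KH {p : HP} : p ∈ KH ↔ sgn p = 1 := Iff.rfl

theorem KH_eq : KH = kP.comap toPX := rfl

theorem sgn_z : sgn (hgen 2) = -1 := by
  show Equiv.Perm.sign (phiP (toPX (hgen 2))) = -1
  rw [toPX_gen, phiP_gen, sign_z]

theorem phiP_even (b : Fin 3) (hb : b ≠ 2) : phiP (pgen b) ∈ grp100Even := by
  have he : esum 2 [(b, true)] % 2 = 0 := by revert hb; revert b; decide +kernel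
  have h := map_dB_le ⟨_, mem_dB (w := [(b, true)]) he, rfl⟩
  rwa [show wval qgen [(b, true)] = qgen b by simp [wval], ← toB_gen b] at h

theorem sgn_xy (b : Fin 3) (hb : b ≠ 2) : sgn (hgen b) = 1 := by
  show Equiv.Perm.sign (phiP (toPX (hgen b))) = 1
  rw [toPX_gen]
  exact (phiP_even b hb).2

/-- The central involution `x²`. -/
noncomputable def hT : HP := hgen 0 * hgen 0

theorem toPX_hT : toPX hT = pc := by rw [hT, map_mul, toPX_gen, pc]

theorem hT_central (g : HP) : hT * g = g * hT :=
  toPX_bijective.1 (by rw [map_mul, map_mul, toPX_hT, pc_central])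

theorem hT_sq : hT * hT = 1 := toPX_bijective.1 (by rw [map_mul, toPX_hT, pc_facts.2.2, map_one])

theorem sgn_hT : sgn hT = 1 := by rw [hT, map_mul, sgn_xy 0 (by decide), one_mul]

theorem hT_ne : hT ≠ 1 := by
  intro h
  obtain ⟨ψ, hψ⟩ := exists_toHN
  apply xx_ne_one
  have := congrArg ψ (congrArg toPX h)
  rwa [toPX_hT, map_one, map_one, pc, map_mul, hψ] at this

theorem index_KH : KH.index = 2 := by
  rw [KH_eq, Subgroup.index_comap_of_surjective _ toPX_surjective, kP_index]

/-- A subgroup and its preimage under a bijective homomorphism. -/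
noncomputable def comapEquiv {A B : Type*} [Group A] [Group B] (f : A →* B) (hf : Function.Bijective f)
    (K : Subgroup B) : K.comap f ≃* K :=
  MulEquiv.ofBijective (f.subgroupComap K)
    ⟨fun a b h => Subtype.ext (hf.1 (congrArg Subtype.val h)), fun k => by
      obtain ⟨a, ha⟩ := hf.2 k.1
      exact ⟨⟨a, by rw [Subgroup.mem_comap, ha]; exact k.2⟩, Subtype.ext ha⟩⟩

/-- Being a non-split double cover transports along isomorphisms. -/
theorem cover_of_equiv {A B H : Type*} [Group A] [Group B] [Group H] (e : A ≃* B)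
    (h : Cfsg.IsNonsplitDoubleCover B H) : Cfsg.IsNonsplitDoubleCover A H := by
  obtain ⟨h1, ⟨q⟩, h3⟩ := h
  have hce : (Subgroup.center A).map e.toMonoidHom = Subgroup.center B := by
    ext g
    rw [Subgroup.mem_map_equiv, Subgroup.mem_center_iff, Subgroup.mem_center_iff]
    constructor
    · intro hg b
      have := congrArg e (hg (e.symm b))
      simpa [map_mul] using this
    · intro hg b
      apply e.injective
      simpa [map_mul] using hg (e b)
  refine ⟨?_, ⟨(QuotientGroup.congr _ _ e hce).trans q⟩, ?_⟩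
  · rw [← Subgroup.card_map_of_injective (f := e.toMonoidHom) e.injective, hce, h1]
  · intro L hL
    apply h3 (L.map e.toMonoidHom)
    rw [← hce]
    refine Subgroup.isComplement'_of_disjoint_and_mul_eq_univ ?_ ?_
    · rw [disjoint_iff, ← Subgroup.map_inf_eq _ _ _ e.injective, disjoint_iff.1 hL.disjoint,
        Subgroup.map_bot]
    · rw [Set.eq_univ_iff_forall]
      intro a
      obtain ⟨⟨z, l⟩, hzl⟩ := hL.2 (e.symm a)
      refine ⟨e z.1, ⟨z.1, z.2, rfl⟩, e l.1, ⟨l.1, l.2, rfl⟩, ?_⟩
      show e z.1 * e l.1 = a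
      rw [← map_mul, show z.1 * l.1 = e.symm a from hzl, MulEquiv.apply_symm_apply]

/-- An element fixing every even element under conjugation is a power of the central involution. -/
theorem centralizes_KH {w : HP} (hw : ∀ k ∈ KH, w * k = k * w) : w = 1 ∨ w = hT := by
  have hker : toPX w ∈ phiP.ker := by
    rw [MonoidHom.mem_ker]
    refine eq_one_of_comm fun h hh => ?_
    have hr : h ∈ phiP.range := by rw [phiP_range]; exact hh.1
    obtain ⟨p, rfl⟩ := hr
    obtain ⟨q, rfl⟩ := toPX_surjective p
    rw [← map_mul, ← map_mul, ← map_mul, ← map_mul, hw q hh.2]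
  rw [phiP_ker] at hker
  obtain ⟨i, hi⟩ := Subgroup.mem_zpowers_iff.1 hker
  have hpow : ∀ n : ℕ, hT ^ n = 1 ∨ hT ^ n = hT := by
    intro n
    induction n with
    | zero => exact Or.inl (pow_zero _)
    | succ n ih =>
      rw [pow_succ]
      rcases ih with h | h <;> rw [h]
      · exact Or.inr (one_mul _)
      · exact Or.inl hT_sq
  obtain ⟨n, hn⟩ : ∃ n : ℕ, hT ^ n = hT ^ i := by
    have : hT ^ i ∈ Submonoid.powers hT := by
      exact mem_powers_iff_mem_zpowers.2 ⟨i, rfl⟩
    obtain ⟨n, hn⟩ := this
    exact ⟨n, hn⟩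
  have hwe : w = hT ^ i := toPX_bijective.1 (by rw [map_zpow, toPX_hT, hi])
  rw [hwe, ← hn]
  exact hpow n

theorem cover_KH : Cfsg.IsNonsplitDoubleCover KH ↥Cfsg.Spor.HS ∧ commutator KH = ⊤ := by
  have hc : Cfsg.IsNonsplitDoubleCover KH ↥Cfsg.Spor.HS :=
    cover_of_equiv ((MulEquiv.subgroupCongr KH_eq).trans (comapEquiv toPX toPX_bijective kP)) kP_cover
  exact ⟨hc, HNMult.cover_perfect hc⟩

end Cfsg.Agent.HNRec
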