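import Mathlib

/-!
Two central elements of a Sylow subgroup of a centraliser with different numbers of square roots in it are not
conjugate to one another in the way that moves the first onto the second.
-/

set_option autoImplicit false

namespace Cfsg.Agent.HNRec

open Subgroup

/-- A two-group is conjugate into a subgroup of full two-power order. -/
theorem conj_into {Γ : Type*} [Group Γ] [Finite Γ] (P : Subgroup Γ) {k m : ℕ}
    (hP : Nat.card P = 2 ^ k) (hΓ : Nat.card Γ = 2 ^ k * m) (hm : ¬ 2 ∣ m) {Q : Subgroup Γ}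
    (hQ : IsPGroup 2 Q) : ∃ g : Γ, ∀ q ∈ Q, g * q * g⁻¹ ∈ P := by
  have : Fact (Nat.Prime 2) := ⟨Nat.prime_two⟩
  have hf : (Nat.card Γ).factorization 2 = k := by
    have hm0 : m ≠ 0 := fun h => hm (h ▸ dvd_zero 2)
    rw [hΓ, Nat.factorization_mul (by positivity) hm0, Finsupp.add_apply,
      Nat.Prime.factorization_pow Nat.prime_two, Nat.factorization_eq_zero_of_not_dvd hm]
    simp
  obtain ⟨S, hS⟩ := hQ.exists_le_sylow
  obtain ⟨g, hg⟩ := MulAction.exists_smul_eq Γ S (Sylow.ofCard P (by rw [hP, hf]))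
  refine ⟨g, fun q hq => ?_⟩
  have h1 : (S : Subgroup Γ).map (MulAut.conj g).toMonoidHom = P := by
    have := congrArg Sylow.toSubgroup hg
    rwa [Sylow.coe_subgroup_smul] at this
  rw [← h1]
  exact ⟨q, hS hq, rfl⟩

variable {G : Type*} [Group G] [Finite G]

/-- The elements of a subgroup squaring to a given element. -/
abbrev Roots (E : Subgroup G) (s : G) : Type _ := {x : E // (x : G) * x = s}

/-- Different numbers of square roots forbid fusion. -/
theorem not_conj_of_roots {t s : G} (E : Subgroup G) {k m : ℕ} (hE : Nat.card E = 2 ^ k)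
    (hm : ¬ 2 ∣ m) (hC : Nat.card (Subgroup.centralizer ({t} : Set G)) = 2 ^ k * m)
    (hEt : E ≤ Subgroup.centralizer ({t} : Set G)) (hEs : E ≤ Subgroup.centralizer ({s} : Set G))
    (hne : Nat.card (Roots E t) ≠ Nat.card (Roots E s)) : ¬ IsConj t s := by
  classical
  intro hconj
  obtain ⟨g, hg⟩ := isConj_iff.1 hconj
  set C := Subgroup.centralizer ({t} : Set G) with hCdef
  set F := E.map (MulAut.conj g⁻¹).toMonoidHom with hFdef
  have hFC : F ≤ C := by
    rintro _ ⟨x, hx, rfl⟩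
    have hxs := Subgroup.mem_centralizer_singleton_iff.1 (hEs hx)
    rw [Subgroup.mem_centralizer_singleton_iff]
    show g⁻¹ * x * g⁻¹⁻¹ * t = t * (g⁻¹ * x * g⁻¹⁻¹)
    rw [inv_inv]
    calc g⁻¹ * x * g * t = g⁻¹ * (x * (g * t * g⁻¹)) * g := by group
      _ = g⁻¹ * ((g * t * g⁻¹) * x) * g := by rw [hg, hxs]
      _ = t * (g⁻¹ * x * g) := by group
  have hEC : Nat.card (E.subgroupOf C) = 2 ^ k :=
    (Nat.card_congr (Subgroup.subgroupOfEquivOfLe hEt).toEquiv).trans hE
  have hFpg : IsPGroup 2 (F.subgroupOf C) := IsPGroup.of_card (n := k) (by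
    rw [Nat.card_congr (Subgroup.subgroupOfEquivOfLe hFC).toEquiv, hFdef,
      Subgroup.card_map_of_injective (MulAut.conj g⁻¹).injective, hE])
  obtain ⟨c, hc⟩ := conj_into (E.subgroupOf C) hEC hC hm hFpg
  -- `c * g⁻¹` maps `E` into itself and `s` to `t`
  set h : G := c * g⁻¹ with hh
  have hst : h * s * h⁻¹ = t := by
    have hct := Subgroup.mem_centralizer_singleton_iff.1 c.2
    rw [hh, ← hg]
    calc (c : G) * g⁻¹ * (g * t * g⁻¹) * ((c : G) * g⁻¹)⁻¹ = (c : G) * t * (c : G)⁻¹ := by group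
      _ = t := by rw [hct, mul_inv_cancel_right]
  have hin : ∀ x : E, h * x * h⁻¹ ∈ E := by
    intro x
    have hxF : g⁻¹ * x * g ∈ F := ⟨x, x.2, by show g⁻¹ * (x : G) * g⁻¹⁻¹ = _; rw [inv_inv]⟩
    have := hc ⟨_, hFC hxF⟩ hxF
    rw [Subgroup.mem_subgroupOf] at this
    convert this using 1
    simp only [hh, Subgroup.coe_mul, Subgroup.coe_inv, mul_inv_rev, inv_inv, mul_assoc]
  let f : E → E := fun x => ⟨h * x * h⁻¹, hin x⟩
  have hf : Function.Bijective f := Finite.injective_iff_bijective.1 fun x y e =>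
    Subtype.ext (mul_left_cancel (mul_right_cancel (congrArg Subtype.val e : h * x * h⁻¹ = h * y * h⁻¹)))
  refine hne (Nat.card_congr ((Equiv.ofBijective f hf).subtypeEquiv fun x => ?_)).symm
  show (x : G) * x = s ↔ h * x * h⁻¹ * (h * x * h⁻¹) = t
  rw [← hst, show h * x * h⁻¹ * (h * x * h⁻¹) = h * ((x : G) * x) * h⁻¹ by group]
  exact ⟨fun e => by rw [e], fun e => mul_left_cancel (mul_right_cancel e)⟩

end Cfsg.Agent.HNRec
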