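import Cfsg.Agent.HNRec.Model
import Cfsg.Agent.HNRec.SylData
import Cfsg.Agent.HNOrder.PermHom
import Cfsg.Agent.HNOrder.Rewrite

/-!
A Sylow 2-subgroup of the model with its central involutions, the classes of its involutions and the numbers
of square roots of the central involutions, in the model and in its twin.
-/

set_option autoImplicit false
set_option maxRecDepth 100000
set_option maxHeartbeats 1000000

namespace Cfsg.Agent.HNRec

open Cfsg.Agent.DCoset Cfsg.Agent.CosetCert SylData

/-- The permutation model. -/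
noncomputable def hm : QModel HP := Classical.choose HNOrder.exists_hmodel

theorem hm_tab : hm.toTab = DCoset.HN.tab := (Classical.choose_spec HNOrder.exists_hmodel).1

theorem hm_q : hm.q = HNOrder.letterEl HNOrder.HRels := (Classical.choose_spec HNOrder.exists_hmodel).2

theorem hm_base : hm.base = DCoset.HN.tab.base := congrArg Tab.base hm_tab

/-- A packed word as an element. -/
noncomputable def hw (w : Nat) : HP := hm.el w

theorem app_tup (a : HP) {w : Nat} (hok : DCoset.HN.tab.okWord w = true) :
    DCoset.HN.tab.app (hm.tup a) w = hm.tup (a * hw w) := by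
  rw [← hm_tab] at hok ⊢
  rw [Tab.app, force_eq]
  exact (hm.tup_mul_word _ _ _ hok).symm

theorem app_base {w : Nat} (hok : DCoset.HN.tab.okWord w = true) :
    DCoset.HN.tab.app DCoset.HN.tab.base w = hm.tup (hw w) := by
  rw [← hm_base, ← hm.one, app_tup 1 hok, one_mul]

theorem q_even : ∀ g, g < 4 → sgn (hm.q g) = 1 := by
  intro g hg
  rw [hm_q]
  interval_cases g
  · show sgn (hgen 0) = 1
    exact sgn_xy 0 (by decide)
  · show sgn (hgen 0)⁻¹ = 1
    rw [map_inv, sgn_xy 0 (by decide), inv_one]
  · show sgn (hgen 1) = 1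
    exact sgn_xy 1 (by decide)
  · show sgn (hgen 1)⁻¹ = 1
    rw [map_inv, sgn_xy 1 (by decide), inv_one]

theorem q_odd : ∀ g, 4 ≤ g → g < 6 → sgn (hm.q g) = -1 := by
  intro g h4 hg
  rw [hm_q]
  interval_cases g
  · exact sgn_z
  · show sgn (hgen 2)⁻¹ = -1
    rw [map_inv, sgn_z]
    decide

/-- The number of odd letters of `n` packed letters, modulo two. -/
noncomputable def oddW : Nat → Nat → Nat :=
  fun n => Nat.rec (fun _ => 0)
    (fun _ ih w => Nat.mod (Nat.add (cond (Nat.ble 4 (Nat.mod w 256)) 1 0) (ih (Nat.div w 256))) 2) n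

theorem sgn_valW : ∀ n w, lettersBelow 6 n w = true →
    sgn (valW hm.q n w) = (if oddW n w = 0 then 1 else -1) := by
  intro n
  induction n with
  | zero => intro w _; simp [valW, oddW]
  | succ n ih =>
    intro w hl
    rw [lettersBelow_succ, Bool.and_eq_true] at hl
    have hlt := Nat.ble_eq.mp hl.1
    have h2 : ∀ m, oddW m (w / 256) < 2 := fun m => by
      cases m with
      | zero => show (0 : Nat) < 2; norm_num
      | succ m => exact Nat.mod_lt _ Nat.two_pos
    rw [valW, map_mul, ih _ hl.2]
    show _ = (if Nat.mod (Nat.add (cond (Nat.ble 4 (Nat.mod w 256)) 1 0) (oddW n (Nat.div w 256))) 2 = 0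
      then (1 : ℤˣ) else -1)
    rcases Nat.lt_or_ge (w % 256) 4 with h | h
    · rw [q_even _ h, one_mul, show Nat.ble 4 (Nat.mod w 256) = false from Bool.eq_false_iff.2
        fun e => absurd (Nat.ble_eq.mp e) (Nat.not_le.2 h)]
      have := h2 n
      simp only [cond_false, Nat.add_eq, Nat.zero_add]
      show _ = (if oddW n (w / 256) % 2 = 0 then (1 : ℤˣ) else -1)
      rw [Nat.mod_eq_of_lt this]
    · rw [q_odd _ h hlt, show Nat.ble 4 (Nat.mod w 256) = true from Nat.ble_eq.mpr h]
      show _ = (if (1 + oddW n (w / 256)) % 2 = 0 then (1 : ℤˣ) else -1)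
      have := h2 n
      rcases (by omega : oddW n (w / 256) = 0 ∨ oddW n (w / 256) = 1) with e | e <;> rw [e] <;> decide

/-- Generator `j`. -/
def genW (j : Nat) : Nat := gensW.getD j 0

/-- Generator `j` as an element. -/
noncomputable def gE (j : Nat) : HP := hw (genW j)

/-- The tuple of element `i`. -/
noncomputable def tupOf (i : Nat) : Nat := tupS.get i

/-- The product of element `i` and generator `j`. -/
noncomputable def nx (i j : Nat) : Nat := get16 nxS (Nat.add (Nat.mul 4 i) j)

/-- Follow packed generators from `i`. -/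
noncomputable def walkI (i w : Nat) : Nat := force w fun w => foldW (fun j i => nx i j) (wLen w) (wBody w) i

/-- The product of two elements. -/
noncomputable def imul (i k : Nat) : Nat := walkI i (pathS.get k)

/-- Element `i`. -/
noncomputable def E (i : Nat) : HP := val gE (pathS.get i)

/-- The bit of parity of element `i`. -/
noncomputable def parI (i : Nat) : Nat := Nat.mod (Nat.shiftRight parBits i) 2

theorem gens_ok : allFrom (fun j => gate (DCoset.HN.tab.okWord (genW j))
    (force (genW j) fun w => Nat.beq (oddW (wLen w) (wBody w)) (gensPar.getD j 0))) 0 4 = true := by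
  decide +kernel

/-- One edge. -/
noncomputable def edgeB (i j : Nat) : Bool :=
  force (nx i j) fun k => gate (Nat.blt k 2048)
    (gate (Nat.beq (DCoset.HN.tab.app (tupOf i) (genW j)) (tupOf k))
      (Nat.beq (parI k) (Nat.mod (Nat.add (parI i) (gensPar.getD j 0)) 2)))

theorem edges_ok : allFrom (fun i => allFrom (edgeB i) 0 4) 0 2048 = true := by decide +kernel

theorem paths_ok : allFrom (fun i => force (pathS.get i) fun w =>
    gate (lettersBelow 4 (wLen w) (wBody w)) (Nat.beq (walkI i0 w) i)) 0 2048 = true := by decide +kernel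

theorem sorted_ok : allFrom (fun i => Nat.blt (tupOf i) (tupOf (Nat.succ i))) 0 2047 = true := by decide +kernel

theorem start_ok : tupOf i0 = DCoset.HN.tab.base ∧ parI i0 = 0 ∧ i0 < 2048 := by decide +kernel

theorem genW_ok {j : Nat} (hj : j < 4) : DCoset.HN.tab.okWord (genW j) = true := by
  have h := (allFrom_iff _ _ _).1 gens_ok j (Nat.zero_le _) (by omega)
  simp only [gate_eq, Bool.and_eq_true] at h
  exact h.1

theorem sgn_gE {j : Nat} (hj : j < 4) : sgn (gE j) = (if gensPar.getD j 0 = 0 then 1 else -1) := by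
  have h := (allFrom_iff _ _ _).1 gens_ok j (Nat.zero_le _) (by omega)
  simp only [gate_eq, force_eq, Bool.and_eq_true] at h
  rw [← Nat.eq_of_beq_eq_true h.2]
  exact sgn_valW _ _ h.1

theorem nx_spec {i j : Nat} (hi : i < 2048) (hj : j < 4) :
    nx i j < 2048 ∧ DCoset.HN.tab.app (tupOf i) (genW j) = tupOf (nx i j) ∧
      parI (nx i j) = (parI i + gensPar.getD j 0) % 2 := by
  have h := (allFrom_iff _ _ _).1 ((allFrom_iff _ _ _).1 edges_ok i (Nat.zero_le _) (by omega))
    j (Nat.zero_le _) (by omega)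
  simp only [edgeB, gate_eq, force_eq, Bool.and_eq_true] at h
  exact ⟨Nat.ble_eq.mp h.1, Nat.eq_of_beq_eq_true h.2.1, Nat.eq_of_beq_eq_true h.2.2⟩

theorem tupOf_lt {i k : Nat} (hik : i < k) (hk : k < 2048) : tupOf i < tupOf k := by
  induction k with
  | zero => omega
  | succ k ih =>
    have h := Nat.ble_eq.mp ((allFrom_iff _ _ _).1 sorted_ok k (Nat.zero_le _) (by omega))
    rcases Nat.lt_or_ge i k with h' | h'
    · exact lt_trans (ih h' (by omega)) h
    · rwa [show i = k by omega]

theorem tupOf_inj {i k : Nat} (hi : i < 2048) (hk : k < 2048) (h : tupOf i = tupOf k) : i = k := by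
  rcases Nat.lt_trichotomy i k with h' | h' | h'
  · exact absurd h (tupOf_lt h' hk).ne
  · exact h'
  · exact absurd h (tupOf_lt h' hi).ne'

theorem walk_spec : ∀ n w i a, i < 2048 → hm.tup a = tupOf i → lettersBelow 4 n w = true →
    sgn a = (if parI i = 0 then 1 else -1) →
    foldW (fun j i => nx i j) n w i < 2048 ∧
      hm.tup (a * valW gE n w) = tupOf (foldW (fun j i => nx i j) n w i) ∧
      sgn (a * valW gE n w) = (if parI (foldW (fun j i => nx i j) n w i) = 0 then 1 else -1) := by
  intro n
  induction n with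
  | zero => intro w i a hi ha _ hs; exact ⟨hi, by simpa [valW, foldW] using ha, by simpa [valW, foldW] using hs⟩
  | succ n ih =>
    intro w i a hi ha hl hs
    rw [lettersBelow_succ, Bool.and_eq_true] at hl
    have hj : w % 256 < 4 := Nat.ble_eq.mp hl.1
    obtain ⟨h1, h2, h3⟩ := nx_spec hi hj
    rw [valW, ← mul_assoc, foldW_succ]
    refine ih _ _ _ h1 ?_ hl.2 ?_
    · rw [← h2, ← ha, gE, app_tup _ (genW_ok hj)]
    · rw [map_mul, hs, sgn_gE hj, h3]
      have hp : gensPar.getD (w % 256) 0 < 2 := by interval_cases h : w % 256 <;> decide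
      have : parI i < 2 := Nat.mod_lt _ Nat.two_pos
      rcases (by omega : parI i = 0 ∨ parI i = 1) with e | e <;>
        rcases (by omega : gensPar.getD (w % 256) 0 = 0 ∨ gensPar.getD (w % 256) 0 = 1) with e' | e' <;>
        rw [e, e'] <;> decide

theorem E_spec {i : Nat} (hi : i < 2048) :
    hm.tup (E i) = tupOf i ∧ sgn (E i) = (if parI i = 0 then 1 else -1) := by
  have h := (allFrom_iff _ _ _).1 paths_ok i (Nat.zero_le _) (by omega)
  simp only [gate_eq, force_eq, Bool.and_eq_true] at h
  obtain ⟨hl, hw'⟩ := h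
  have hw' := Nat.eq_of_beq_eq_true hw'
  have hs := walk_spec (wLen (pathS.get i)) (wBody (pathS.get i)) i0 1 start_ok.2.2
    (by rw [hm.one, hm_base, start_ok.1]) hl (by rw [start_ok.2.1, map_one, if_pos rfl])
  rw [walkI, force_eq] at hw'
  rw [hw', one_mul] at hs
  exact ⟨hs.2.1, hs.2.2⟩

theorem E_inj {i k : Nat} (hi : i < 2048) (hk : k < 2048) (h : E i = E k) : i = k :=
  tupOf_inj hi hk (by rw [← (E_spec hi).1, ← (E_spec hk).1, h])

theorem E_i0 : E i0 = 1 := hm.inj (by rw [(E_spec start_ok.2.2).1, start_ok.1, hm.one, hm_base])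

theorem imul_spec {i k : Nat} (hi : i < 2048) (hk : k < 2048) :
    imul i k < 2048 ∧ E i * E k = E (imul i k) := by
  have h := (allFrom_iff _ _ _).1 paths_ok k (Nat.zero_le _) (by omega)
  simp only [gate_eq, force_eq, Bool.and_eq_true] at h
  obtain ⟨h1, h2⟩ := E_spec hi
  obtain ⟨h3, h4, -⟩ := walk_spec (wLen (pathS.get k)) (wBody (pathS.get k)) i (E i) hi h1 h.1 h2
  rw [imul, walkI, force_eq]
  exact ⟨h3, hm.inj (h4.trans (E_spec h3).1.symm)⟩

/-- The Sylow subgroup as a submonoid. -/
noncomputable def sylM : Submonoid HP where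
  carrier := {p | ∃ i, i < 2048 ∧ E i = p}
  one_mem' := ⟨i0, start_ok.2.2, E_i0⟩
  mul_mem' := by
    rintro _ _ ⟨i, hi, rfl⟩ ⟨k, hk, rfl⟩
    exact ⟨imul i k, (imul_spec hi hk).1, (imul_spec hi hk).2.symm⟩

/-- The Sylow subgroup. -/
noncomputable def syl : Subgroup HP :=
  { sylM with
    inv_mem' := fun {x} hx => by
      have e : x⁻¹ = x ^ (orderOf x - 1) := (inv_eq_of_mul_eq_one_left (by
        rw [← pow_succ, Nat.sub_add_cancel (orderOf_pos x), pow_orderOf_eq_one]))
      show x⁻¹ ∈ sylM
      rw [e]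
      exact pow_mem hx _ }

theorem E_mem {i : Nat} (hi : i < 2048) : E i ∈ syl := ⟨i, hi, rfl⟩

theorem exists_E {p : HP} (hp : p ∈ syl) : ∃ i, i < 2048 ∧ E i = p := hp

/-- Numbers of elements of the subgroup with a decidable property. -/
theorem card_syl_filter (P : HP → Prop) (b : Nat → Bool) (hb : ∀ i, i < 2048 → (P (E i) ↔ b i = true)) :
    Nat.card {p : syl // P p} = ((List.range 2048).filter b).length := by
  classical
  rw [← List.toFinset_card_of_nodup (List.Nodup.filter _ List.nodup_range), ← Nat.card_eq_finsetCard]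
  symm
  refine Nat.card_congr (Equiv.ofBijective (fun i => ⟨⟨E i.1, E_mem ?_⟩, ?_⟩) ⟨?_, ?_⟩)
  · have := i.2
    simp only [List.mem_toFinset, List.mem_filter, List.mem_range] at this
    exact this.1
  · have := i.2
    simp only [List.mem_toFinset, List.mem_filter, List.mem_range] at this
    exact (hb _ this.1).2 this.2
  · rintro ⟨i, hi⟩ ⟨k, hk⟩ e
    simp only [List.mem_toFinset, List.mem_filter, List.mem_range] at hi hk
    exact Subtype.ext (E_inj hi.1 hk.1 (congrArg (fun z : {p : syl // P p} => (z.1 : HP)) e))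
  · rintro ⟨⟨p, i, hi, rfl⟩, hp⟩
    exact ⟨⟨i, by simpa only [List.mem_toFinset, List.mem_filter, List.mem_range] using ⟨hi, (hb i hi).1 hp⟩⟩, rfl⟩

theorem card_syl : Nat.card syl = 2048 := by
  rw [← Nat.card_congr (Equiv.subtypeUnivEquiv (p := fun _ : syl => True) fun _ => trivial),
    card_syl_filter (fun _ => True) (fun _ => true) fun _ _ => by simp]
  simp

theorem special_ok : iT < 2048 ∧ iZ1 < 2048 ∧ iZ0 < 2048 ∧ iU < 2048 ∧ iUp < 2048 ∧
    DCoset.HN.tab.app DCoset.HN.tab.base 2 = tupOf iT ∧
    imul iZ1 iT = iZ0 ∧ parI iZ1 = 0 ∧ parI iZ0 = 0 ∧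
    allFrom (fun j => force (nx i0 j) fun g => gate (Nat.beq (imul g iZ1) (imul iZ1 g))
      (Nat.beq (imul g iZ0) (imul iZ0 g))) 0 4 = true := by
  decide +kernel

theorem E_iT : E iT = hT := by
  obtain ⟨h, -, -, -, -, h2, -⟩ := special_ok
  refine hm.inj ?_
  rw [(E_spec h).1, ← h2, app_base (w := 2) (by decide +kernel)]
  show hm.tup (valW hm.q (2 % 65536) (2 / 65536)) = hm.tup hT
  simp only [show (2 : Nat) / 65536 = 0 from rfl, valW, mul_one]
  rw [hm_q]
  rfl

/-- The two central involutions other than `x²`. -/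
noncomputable def z1 : HP := E iZ1

/-- The other one. -/
noncomputable def z0 : HP := E iZ0

theorem z0_eq : z0 = z1 * hT := by
  obtain ⟨h, h1, -, -, -, -, h2, -⟩ := special_ok
  rw [z0, ← h2, z1, ← E_iT, (imul_spec h1 h).2]

theorem sgn_z1 : sgn z1 = 1 := by
  obtain ⟨-, h, -, -, -, -, -, hp, -⟩ := special_ok
  rw [z1, (E_spec h).2, hp, if_pos rfl]

theorem sgn_z0 : sgn z0 = 1 := by rw [z0_eq, map_mul, sgn_z1, sgn_hT, one_mul]

theorem z1_central {p : HP} (hp : p ∈ syl) : p * z1 = z1 * p := by
  obtain ⟨i, hi, rfl⟩ := exists_E hp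
  obtain ⟨-, hz, -, -, -, -, -, -, -, hc⟩ := special_ok
  have hgen : ∀ j, j < 4 → gE j ∈ Subgroup.centralizer ({z1} : Set HP) := by
    intro j hj
    obtain ⟨h1, h2, -⟩ := nx_spec start_ok.2.2 hj
    have hg : gE j = E (nx i0 j) := hm.inj (by
      rw [(E_spec h1).1, ← h2, start_ok.1, app_base (genW_ok hj)]
      rfl)
    have h := (allFrom_iff _ _ _).1 hc j (Nat.zero_le _) (by omega)
    simp only [gate_eq, force_eq, Bool.and_eq_true] at h
    rw [Subgroup.mem_centralizer_singleton_iff, hg, z1, (imul_spec h1 hz).2, (imul_spec hz h1).2,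
      Nat.eq_of_beq_eq_true h.1]
  have h := (allFrom_iff _ _ _).1 paths_ok i (Nat.zero_le _) (by omega)
  simp only [gate_eq, force_eq, Bool.and_eq_true] at h
  exact Subgroup.mem_centralizer_singleton_iff.1 (valW_mem gE 4 _ hgen _ _ h.1)

theorem z0_central {p : HP} (hp : p ∈ syl) : p * z0 = z0 * p := by
  rw [z0_eq, ← mul_assoc, z1_central hp, mul_assoc, ← hT_central p, mul_assoc]

/-- The representative data of an involution. -/
noncomputable def findConj (i : Nat) : Option (Nat × Nat) :=
  (conjData.find? fun e => Nat.beq e.1 i).map fun e => e.2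

/-- An involution is listed with a conjugating word. -/
noncomputable def invB (i : Nat) : Bool :=
  match findConj i with
  | none => false
  | some (r, w) => gate (List.any [iT, iZ1, iZ0, iU, iUp] (Nat.beq r))
      (gate (DCoset.HN.tab.okWord w)
        (gate (Nat.beq (DCoset.HN.tab.app (tupOf r) w)
          (force (DCoset.HN.tab.app DCoset.HN.tab.base w) fun v =>
            force (pathS.get i) fun p =>
              foldW (fun j v => DCoset.HN.tab.app v (genW j)) (wLen p) (wBody p) v))
          true))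

theorem invs_ok : allFrom (fun i => Bool.rec (motive := fun _ => Bool) true
    (Bool.rec (motive := fun _ => Bool) (invB i) true (Nat.beq i i0))
    (Nat.beq (imul i i) i0)) 0 2048 = true := by decide +kernel

theorem fold_gens : ∀ n w a, lettersBelow 4 n w = true →
    foldW (fun j v => DCoset.HN.tab.app v (genW j)) n w (hm.tup a) = hm.tup (a * valW gE n w) := by
  intro n
  induction n with
  | zero => intro w a _; simp [valW, foldW]
  | succ n ih =>
    intro w a hl
    rw [lettersBelow_succ, Bool.and_eq_true] at hl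
    rw [foldW_succ, app_tup _ (genW_ok (Nat.ble_eq.mp hl.1)), ih _ _ hl.2, valW, ← mul_assoc]
    rfl

/-- Every involution of the subgroup is conjugate to one of five. -/
theorem invol_classes {p : HP} (hp : p ∈ syl) (h2 : p * p = 1) (h1 : p ≠ 1) :
    ∃ r ∈ [iT, iZ1, iZ0, iU, iUp], ∃ q : HP, p = q⁻¹ * E r * q := by
  obtain ⟨i, hi, rfl⟩ := exists_E hp
  have hne : i ≠ i0 := fun e => h1 (e ▸ E_i0)
  obtain ⟨hm2, hmul⟩ := imul_spec hi hi
  have h := (allFrom_iff _ _ _).1 invs_ok i (Nat.zero_le _) (by omega)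
  have he : imul i i = i0 := E_inj hm2 start_ok.2.2 (by rw [← hmul, h2, E_i0])
  rw [he, show Nat.beq i0 i0 = true from Nat.beq_eq ▸ rfl] at h
  simp only [show Nat.beq i i0 = false from Bool.eq_false_iff.2 fun e => hne (Nat.eq_of_beq_eq_true e)] at h
  rw [invB] at h
  cases hf : findConj i with
  | none => rw [hf] at h; simp at h
  | some rw' =>
    obtain ⟨r, w⟩ := rw'
    rw [hf] at h
    simp only [gate_eq, force_eq, Bool.and_eq_true, List.any_eq_true, Bool.and_true] at h
    obtain ⟨⟨r', hr', hrr⟩, hok, heq⟩ := h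
    have hrr := Nat.eq_of_beq_eq_true hrr
    subst hrr
    have hr : r < 2048 := by
      obtain ⟨a, b, c, d, e, -⟩ := special_ok
      simp only [List.mem_cons, List.not_mem_nil, or_false] at hr'
      rcases hr' with rfl | rfl | rfl | rfl | rfl <;> assumption
    have hl := (allFrom_iff _ _ _).1 paths_ok i (Nat.zero_le _) (by omega)
    simp only [gate_eq, force_eq, Bool.and_eq_true] at hl
    have heq := Nat.eq_of_beq_eq_true heq
    rw [← (E_spec hr).1, app_tup _ hok, app_base hok, fold_gens _ _ _ hl.1] at heq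
    have e : E r * hw w = hw w * E i := hm.inj heq
    exact ⟨r, hr', hw w, by rw [mul_assoc, e, inv_mul_cancel_left]⟩

/-- The square of element `i`, twisted by the central involution on odd elements. -/
noncomputable def twSq (i : Nat) : Nat :=
  Bool.rec (motive := fun _ => Nat) (imul (imul i i) iT) (imul i i) (Nat.beq (parI i) 0)

theorem counts_ok :
    ((List.range 2048).filter fun i => Nat.beq (imul i i) iT).length = 80 ∧
    ((List.range 2048).filter fun i => Nat.beq (imul i i) iZ0).length = 112 ∧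
    ((List.range 2048).filter fun i => Nat.beq (twSq i) iT).length = 288 ∧
    ((List.range 2048).filter fun i => Nat.beq (twSq i) iZ1).length = 96 ∧
    ((List.range 2048).filter fun i => Nat.beq (twSq i) iZ0).length = 96 ∧
    allFrom (fun i => Bool.rec (motive := fun _ => Bool) (Bool.not (Nat.beq (imul i i) iT)) true
      (Nat.beq (parI i) 0)) 0 2048 = true := by
  refine ⟨?_, ?_, ?_, ?_, ?_, ?_⟩ <;> decide +kernel

theorem sq_iff {i k : Nat} (hi : i < 2048) (hk : k < 2048) :
    E i * E i = E k ↔ Nat.beq (imul i i) k = true := by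
  obtain ⟨hm2, hmul⟩ := imul_spec hi hi
  rw [hmul, Nat.beq_eq]
  exact ⟨E_inj hm2 hk, fun e => by rw [e]⟩

theorem card_roots_hT : Nat.card {p : syl // (p : HP) * p = hT} = 80 := by
  rw [card_syl_filter (fun p => p * p = hT) _ fun i hi => by rw [← E_iT]; exact sq_iff hi special_ok.1]
  exact counts_ok.1

theorem card_roots_z0 : Nat.card {p : syl // (p : HP) * p = z0} = 112 := by
  rw [card_syl_filter (fun p => p * p = z0) _ fun i hi => sq_iff hi special_ok.2.2.1]
  exact counts_ok.2.1

/-- The square of an element in the twin. -/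
noncomputable def twistSq (p : HP) : HP := if sgn p = 1 then p * p else p * p * hT

theorem twistSq_E {i : Nat} (hi : i < 2048) : twSq i < 2048 ∧ twistSq (E i) = E (twSq i) := by
  obtain ⟨hm2, hmul⟩ := imul_spec hi hi
  rw [twistSq, (E_spec hi).2, twSq, hmul]
  by_cases h : parI i = 0
  · rw [h, if_pos rfl, show Nat.beq 0 0 = true from rfl]
    exact ⟨hm2, if_pos rfl⟩
  · rw [if_neg h, show Nat.beq (parI i) 0 = false from Bool.eq_false_iff.2 fun e => h (Nat.eq_of_beq_eq_true e),
      if_neg (by decide), ← E_iT]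
    exact imul_spec hm2 special_ok.1

theorem twist_iff {i k : Nat} (hi : i < 2048) (hk : k < 2048) :
    twistSq (E i) = E k ↔ Nat.beq (twSq i) k = true := by
  obtain ⟨hm2, hmul⟩ := twistSq_E hi
  rw [hmul, Nat.beq_eq]
  exact ⟨E_inj hm2 hk, fun e => by rw [e]⟩

theorem card_twist_hT : Nat.card {p : syl // twistSq p = hT} = 288 := by
  rw [card_syl_filter (fun p => twistSq p = hT) _ fun i hi => by rw [← E_iT]; exact twist_iff hi special_ok.1]
  exact counts_ok.2.2.1

theorem card_twist_z1 : Nat.card {p : syl // twistSq p = z1} = 96 := by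
  rw [card_syl_filter (fun p => twistSq p = z1) _ fun i hi => twist_iff hi special_ok.2.1]
  exact counts_ok.2.2.2.1

theorem card_twist_z0 : Nat.card {p : syl // twistSq p = z0} = 96 := by
  rw [card_syl_filter (fun p => twistSq p = z0) _ fun i hi => twist_iff hi special_ok.2.2.1]
  exact counts_ok.2.2.2.2.1

/-- No odd element of the subgroup squares to the central involution. -/
theorem odd_sq_ne {p : HP} (hp : p ∈ syl) (ho : sgn p ≠ 1) : p * p ≠ hT := by
  obtain ⟨i, hi, rfl⟩ := exists_E hp
  intro e
  rw [← E_iT, sq_iff hi special_ok.1] at e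
  have h := (allFrom_iff _ _ _).1 counts_ok.2.2.2.2.2 i (Nat.zero_le _) (by omega)
  rw [show Nat.beq (parI i) 0 = false from Bool.eq_false_iff.2 fun e' => ho (by
    rw [(E_spec hi).2, if_pos (Nat.eq_of_beq_eq_true e')]), e] at h
  simp at h

end Cfsg.Agent.HNRec
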