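import Cfsg.Agent.HNRec.Sylow
import Cfsg.Agent.HNRec.Ext
import Cfsg.Agent.HNRec.Roots
import Cfsg.Agent.FTCons.Basic
import Cfsg.Agent.Invol.ZStar

/-!
The twin of the model is not the centraliser of an involution in a simple group, and in the model the third
class of involutions is not fused to the central one.
-/

set_option autoImplicit false
set_option linter.unusedSectionVars false

namespace Cfsg.Agent.HNRec

open Subgroup

theorem hT_mem_syl : hT ∈ syl := E_iT ▸ E_mem special_ok.1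

theorem odd_reps : sgn (E SylData.iU) ≠ 1 ∧ sgn (E SylData.iUp) ≠ 1 := by
  obtain ⟨-, -, -, h4, h5, -⟩ := special_ok
  constructor
  · rw [(E_spec h4).2, if_neg (by decide +kernel)]; decide
  · rw [(E_spec h5).2, if_neg (by decide +kernel)]; decide

theorem card_HP_split : Nat.card HP = 2 ^ 11 * 86625 := by rw [card_HP]; norm_num

/-- An element of order dividing four is conjugate into the Sylow subgroup. -/
theorem conj_syl {p : HP} (h4 : p * p * (p * p) = 1) : ∃ q : HP, q * p * q⁻¹ ∈ syl := by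
  have hpg : IsPGroup 2 (Subgroup.zpowers p) := by
    rintro ⟨y, n, rfl⟩
    refine ⟨2, Subtype.ext ?_⟩
    show (p ^ n) ^ 2 ^ 2 = 1
    have h4' : p ^ 4 = 1 := by simpa only [pow_succ, pow_zero, one_mul, mul_assoc] using h4
    rw [show (2 : ℕ) ^ 2 = 4 by norm_num, ← zpow_natCast, ← zpow_mul, mul_comm, zpow_mul, zpow_natCast,
      h4', one_zpow]
  obtain ⟨q, hq⟩ := conj_into syl (k := 11) (by rw [card_syl]; norm_num) card_HP_split (by norm_num) hpg
  exact ⟨q, hq p (Subgroup.mem_zpowers p)⟩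

theorem twistSq_eq (p : HP) : p * p * tau p p = twistSq p := by
  rw [twistSq, tau]
  by_cases h : sgn p = 1
  · rw [if_pos (Or.inl h), if_pos h, mul_one]
  · rw [if_neg (by tauto), if_neg h]

/-- In the twin an element squaring to one is central or conjugate to one of two central involutions. -/
theorem twist_invol {p : HP} (h : twistSq p = 1) :
    sgn p = 1 ∧ (p = 1 ∨ p = hT ∨ ∃ q, p = q⁻¹ * z1 * q ∨ p = q⁻¹ * z0 * q) := by
  have hev : sgn p = 1 := by
    by_contra ho
    rw [twistSq, if_neg ho] at h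
    have hsq : p * p = hT := by
      calc p * p = p * p * (hT * hT) := by rw [hT_sq, mul_one]
        _ = hT := by rw [← mul_assoc, h, one_mul]
    obtain ⟨q, hq⟩ := conj_syl (p := p) (by rw [hsq, hT_sq])
    refine odd_sq_ne hq (by rwa [map_mul, map_mul, map_inv, mul_comm (sgn q), mul_inv_cancel_right]) ?_
    calc q * p * q⁻¹ * (q * p * q⁻¹) = q * (p * p) * q⁻¹ := by group
      _ = hT := by rw [hsq, ← hT_central, mul_inv_cancel_right]
  refine ⟨hev, ?_⟩
  rw [twistSq, if_pos hev] at h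
  by_cases h1 : p = 1
  · exact Or.inl h1
  right
  obtain ⟨q, hq⟩ := conj_syl (p := p) (by rw [h, mul_one])
  have hne : q * p * q⁻¹ ≠ 1 := fun e => h1 (by simpa using (conj_eq_one_iff (a := q) (b := p)).1 e)
  have hsq : q * p * q⁻¹ * (q * p * q⁻¹) = 1 := by
    calc q * p * q⁻¹ * (q * p * q⁻¹) = q * (p * p) * q⁻¹ := by group
      _ = 1 := by rw [h]; group
  obtain ⟨r, hr, v, hv⟩ := invol_classes hq hsq hne
  have hp : p = (v * q)⁻¹ * E r * (v * q) := by
    calc p = q⁻¹ * (q * p * q⁻¹) * q := by group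
      _ = q⁻¹ * (v⁻¹ * E r * v) * q := by rw [hv]
      _ = _ := by group
  have hs : sgn (E r) = 1 := by
    rw [hp] at hev
    simp only [map_mul, map_inv] at hev
    rwa [mul_right_comm, inv_mul_cancel, one_mul] at hev
  simp only [List.mem_cons, List.not_mem_nil, or_false] at hr
  rcases hr with rfl | rfl | rfl | rfl | rfl
  · left
    rw [hp, E_iT, mul_assoc, hT_central, inv_mul_cancel_left]
  · exact Or.inr ⟨v * q, Or.inl hp⟩
  · exact Or.inr ⟨v * q, Or.inr hp⟩
  · exact absurd hs odd_reps.1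
  · exact absurd hs odd_reps.2

variable {G : Type*} [Group G] [Finite G]

/-- A twisted copy of the model as the centraliser of an involution. -/
structure Twisted (G : Type*) [Group G] where
  /-- the map -/
  ψ : HP → G
  inj : Function.Injective ψ
  mul : ∀ p q, ψ (p * q * tau p q) = ψ p * ψ q
  mem_range : ∀ y, y * ψ hT = ψ hT * y → y ∈ Set.range ψ

namespace Twisted

variable (W : Twisted G)

theorem mul_even {p : HP} (hp : sgn p = 1) (q : HP) : W.ψ (p * q) = W.ψ p * W.ψ q := by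
  rw [← W.mul, tau, if_pos (Or.inl hp), mul_one]

theorem mul_even' (p : HP) {q : HP} (hq : sgn q = 1) : W.ψ (p * q) = W.ψ p * W.ψ q := by
  rw [← W.mul, tau, if_pos (Or.inr hq), mul_one]

theorem ψ_one : W.ψ 1 = 1 := by
  have h := W.mul_even (map_one sgn) 1
  rw [one_mul] at h
  exact mul_left_cancel ((mul_one (W.ψ 1)).trans h).symm

theorem ψ_comm {p q : HP} (hq : sgn q = 1) (h : p * q = q * p) : W.ψ p * W.ψ q = W.ψ q * W.ψ p := by
  rw [← W.mul_even' p hq, ← W.mul_even hq p, h]

theorem tau_mem (p q : HP) : tau p q ∈ syl := by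
  rw [tau]
  split_ifs
  exacts [one_mem _, hT_mem_syl]

/-- The image of the Sylow subgroup. -/
def sub : Subgroup G :=
  { carrier := W.ψ '' (syl : Set HP)
    one_mem' := ⟨1, one_mem _, W.ψ_one⟩
    mul_mem' := by
      rintro _ _ ⟨p, hp, rfl⟩ ⟨q, hq, rfl⟩
      exact ⟨p * q * tau p q, mul_mem (mul_mem hp hq) (tau_mem p q), W.mul p q⟩
    inv_mem' := by
      rintro _ ⟨p, hp, rfl⟩
      refine ⟨p⁻¹ * tau p p⁻¹, mul_mem (inv_mem hp) (tau_mem _ _), eq_inv_of_mul_eq_one_right ?_⟩
      have ht : tau p p⁻¹ * tau p p⁻¹ = 1 ∧ sgn (tau p p⁻¹) = 1 := by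
        rw [tau]
        split_ifs
        exacts [⟨one_mul 1, map_one _⟩, ⟨hT_sq, sgn_hT⟩]
      rw [W.mul_even' _ ht.2, ← mul_assoc, ← W.mul, mul_inv_cancel, one_mul, ← W.mul_even ht.2, ht.1, W.ψ_one] }

theorem card_sub : Nat.card W.sub = 2 ^ 11 := by
  show Nat.card ↥(W.ψ '' (syl : Set HP)) = _
  rw [Nat.card_image_of_injective W.inj]
  exact card_syl.trans (by norm_num)

theorem ψ_T_central (p : HP) : W.ψ p * W.ψ hT = W.ψ hT * W.ψ p := W.ψ_comm sgn_hT (hT_central p).symm

theorem card_cent : Nat.card (Subgroup.centralizer ({W.ψ hT} : Set G)) = 2 ^ 11 * 86625 := by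
  rw [← card_HP_split]
  let f : HP → Subgroup.centralizer ({W.ψ hT} : Set G) := fun p =>
    ⟨W.ψ p, Subgroup.mem_centralizer_singleton_iff.2 (W.ψ_T_central p)⟩
  refine (Nat.card_congr (Equiv.ofBijective f ⟨?_, ?_⟩)).symm
  · exact fun p q e => W.inj (congrArg Subtype.val e)
  · rintro ⟨y, hy⟩
    obtain ⟨p, rfl⟩ := W.mem_range y (Subgroup.mem_centralizer_singleton_iff.1 hy)
    exact ⟨p, rfl⟩

theorem card_roots (r : HP) : Nat.card (Roots W.sub (W.ψ r)) = Nat.card {p : syl // twistSq p = r} := by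
  let f : {p : syl // twistSq p = r} → Roots W.sub (W.ψ r) := fun p => ⟨⟨W.ψ p.1, p.1, p.1.2, rfl⟩, by
    show W.ψ p.1 * W.ψ p.1 = W.ψ r
    rw [← W.mul, twistSq_eq, p.2]⟩
  refine (Nat.card_congr (Equiv.ofBijective f ⟨?_, ?_⟩)).symm
  · exact fun p q e => Subtype.ext (Subtype.ext (W.inj (congrArg (fun x : Roots W.sub (W.ψ r) => (x.1 : G)) e)))
  · rintro ⟨⟨_, p, hp, rfl⟩, he⟩
    refine ⟨⟨⟨p, hp⟩, W.inj ?_⟩, rfl⟩
    rw [← twistSq_eq, W.mul]
    exact he

theorem not_conj {r : HP} (hr : sgn r = 1) (hc : ∀ p ∈ syl, p * r = r * p)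
    (hne : Nat.card {p : syl // twistSq p = hT} ≠ Nat.card {p : syl // twistSq p = r}) :
    ¬ IsConj (W.ψ hT) (W.ψ r) := by
  refine not_conj_of_roots W.sub (k := 11) (m := 86625) W.card_sub (by norm_num) W.card_cent ?_ ?_
    (by rwa [W.card_roots, W.card_roots])
  · rintro _ ⟨p, -, rfl⟩
    exact Subgroup.mem_centralizer_singleton_iff.2 (W.ψ_T_central p)
  · rintro _ ⟨p, hp, rfl⟩
    exact Subgroup.mem_centralizer_singleton_iff.2 (W.ψ_comm hr (hc p hp))

theorem ψ_conj (q : HP) {r : HP} (hr : sgn r = 1) : IsConj (W.ψ r) (W.ψ (q⁻¹ * r * q)) := by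
  have he : sgn (q⁻¹ * r * q) = 1 := by rw [map_mul, map_mul, map_inv, hr, mul_one, inv_mul_cancel]
  refine isConj_iff.2 ⟨(W.ψ q)⁻¹, ?_⟩
  rw [inv_inv, mul_assoc, inv_mul_eq_iff_eq_mul, ← W.mul_even hr, ← W.mul_even' q he]
  congr 1
  group

/-- The twin cannot be the centraliser of an involution in a simple group. -/
theorem contradiction [IsSimpleGroup G] (W : Twisted G) : False := by
  have hne : W.ψ hT ≠ 1 := fun h => hT_ne (W.inj (h.trans W.ψ_one.symm))
  have hsq : W.ψ hT * W.ψ hT = 1 := by rw [← W.mul_even sgn_hT, hT_sq, W.ψ_one]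
  have hord : orderOf (W.ψ hT) = 2 := orderOf_eq_prime (by rw [pow_two, hsq]) hne
  have hiso : Cfsg.IsIsolatedInvolution (W.ψ hT) := by
    refine ⟨hord, fun g hc => ?_⟩
    obtain ⟨p, hp⟩ := W.mem_range _ hc.eq.symm
    have hpp : twistSq p = 1 := W.inj (by
      rw [← twistSq_eq, W.mul, hp, W.ψ_one]
      calc g * W.ψ hT * g⁻¹ * (g * W.ψ hT * g⁻¹) = g * (W.ψ hT * W.ψ hT) * g⁻¹ := by group
        _ = 1 := by rw [hsq]; group)
    have hconj : IsConj (W.ψ hT) (W.ψ p) := isConj_iff.2 ⟨g, hp.symm⟩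
    obtain ⟨-, h | h | ⟨q, h | h⟩⟩ := twist_invol hpp
    · rw [h, W.ψ_one] at hconj
      exact absurd (isConj_one_left.1 hconj) hne
    · rw [← hp, h]
    · rw [h] at hconj
      exact absurd (hconj.trans (W.ψ_conj q sgn_z1).symm) (W.not_conj sgn_z1 (fun _ => z1_central)
        (by rw [card_twist_hT, card_twist_z1]; norm_num))
    · rw [h] at hconj
      exact absurd (hconj.trans (W.ψ_conj q sgn_z0).symm) (W.not_conj sgn_z0 (fun _ => z0_central)
        (by rw [card_twist_hT, card_twist_z0]; norm_num))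
  have he : Even (Nat.card G) := even_iff_two_dvd.2 (hord ▸ orderOf_dvd_natCard _)
  have hcen : W.ψ hT ∈ Subgroup.center G := Subgroup.mem_center_iff.mpr fun g => by
    have h := Invol.zstar hiso g
    rw [FTCons.oddCore_eq_bot_of_simple he, Subgroup.mem_bot, mul_inv_eq_one, mul_inv_eq_iff_eq_mul] at h
    exact h.symm
  rcases (inferInstance : (Subgroup.center G).Normal).eq_bot_or_eq_top with h | h
  · rw [h, Subgroup.mem_bot] at hcen
    exact hne hcen
  · have habs : ∀ a b : G, a * b = b * a := fun a b =>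
      (Subgroup.mem_center_iff.1 (h ▸ Subgroup.mem_top b) a)
    have hc : Subgroup.centralizer ({W.ψ hT} : Set G) = ⊤ :=
      eq_top_iff.2 fun x _ => Subgroup.mem_centralizer_singleton_iff.2 (habs _ _)
    have hcard := W.card_cent
    rw [hc, Subgroup.card_top] at hcard
    letI : CommGroup G := { (inferInstance : Group G) with mul_comm := habs }
    have hp : (Nat.card G).Prime := IsSimpleGroup.prime_card
    rw [hcard] at hp
    norm_num at hp

end Twisted

end Cfsg.Agent.HNRec
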